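import Cfsg.Agent.H460.Car.Bridge
import Cfsg.Agent.H18.Carter.PslTwo
import Cfsg.Agent.ClassicalGeometry.PSL2Basic
import Cfsg.Agent.Lib.FieldAutCard
import Cfsg.Agent.BpAlt.Row
import Cfsg.Agent.LieRecognition.ReeInv
import Cfsg.Agent.LieRecognition.ReePSL
import Cfsg.Agent.LieRecognition.ReeCent
import Cfsg.Agent.LieRecognition.ReeSylowThree
import Cfsg.Agent.S1116
import Cfsg.Agent.S1152
import Cfsg.Agent.S1157
import Cfsg.Agent.S2127

/-!
# `PSL₂(3^odd)` and `²G₂(3^odd)` have the properties `Exc` (S3852, helper460)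
-/

set_option autoImplicit false
set_option linter.unusedSectionVars false
set_option linter.unusedVariables false

namespace Cfsg.Agent.H460.Car

open Subgroup
open Cfsg Cfsg.Lie

universe u

namespace EO

/-- powers of three -/
theorem three_mod (m : ℕ) : 3 ^ (2 * m + 1) % 8 = 3 ∧ (3 ^ (2 * m + 1) % 5 = 3 ∨ 3 ^ (2 * m + 1) % 5 = 2) := by
  induction m with
  | zero => norm_num
  | succ m ih =>
    rw [show 3 ^ (2 * (m + 1) + 1) = 3 ^ (2 * m + 1) * 9 by rw [show 2 * (m + 1) + 1 = 2 * m + 1 + 2 by ring, pow_add]; norm_num]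
    omega

theorem pow_two_dvd_eight {j n : ℕ} (h : 2 ^ j ∣ n) (h16 : ¬ 16 ∣ n) : 2 ^ j ∣ 8 := by
  have hj : j ≤ 3 := by
    by_contra hc
    exact h16 ((show (16 : ℕ) = 2 ^ 4 by norm_num) ▸ (pow_dvd_pow 2 (by omega)).trans h)
  exact (pow_dvd_pow 2 hj).trans (by norm_num)

theorem aut_of {T : Type*} [Group T] [Finite T] {n : ℕ} (h : Nat.card (MulAut T) ∣ n) (h16 : ¬ 16 ∣ n)
    (A : Subgroup (MulAut T)) (hA : IsPGroup 2 A) : Nat.card A ∣ 8 := by
  have : Finite (MulAut T) := Finite.of_injective (fun e : MulAut T => (e : T → T)) DFunLike.coe_injective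
  have : Fact (Nat.Prime 2) := ⟨Nat.prime_two⟩
  obtain ⟨j, hj⟩ := IsPGroup.iff_card.1 hA
  have h1 : Nat.card A ∣ n := (Subgroup.card_subgroup_dvd_card A).trans h
  rw [hj] at h1 ⊢
  exact pow_two_dvd_eight h1 h16

theorem comm_of_sq {T : Type*} [Group T] {x y : T} (hx : x * x = 1) (hy : y * y = 1) (hxy : (x * y) * (x * y) = 1) :
    x * y = y * x := by
  have h1 : x⁻¹ = x := inv_eq_of_mul_eq_one_right hx
  have h2 : y⁻¹ = y := inv_eq_of_mul_eq_one_right hy
  have h3 : (x * y)⁻¹ = x * y := inv_eq_of_mul_eq_one_right hxy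
  rw [← h3, mul_inv_rev, h1, h2]

theorem comm_of_card_dvd_four {P : Type*} [Group P] [Finite P] (h : Nat.card P ∣ 4) (x y : P) : x * y = y * x := by
  have : Fact (Nat.Prime 2) := ⟨Nat.prime_two⟩
  have h1 : Nat.card P ∣ 2 ^ 2 := by simpa using h
  obtain ⟨k, hk, hc⟩ := (Nat.dvd_prime_pow Nat.prime_two).1 h1
  interval_cases k
  · have : Subsingleton P := (Nat.card_eq_one_iff_unique.1 (by simpa using hc)).1
    exact Subsingleton.elim _ _
  · have : IsCyclic P := isCyclic_of_prime_card (p := 2) (by simpa using hc)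
    let _ := IsCyclic.commGroup (α := P)
    exact mul_comm x y
  · exact (IsPGroup.isMulCommutative_of_card_eq_prime_sq hc).is_comm.comm x y

section Psl

variable {F : Type*} [Field F] [Fintype F]

/-- a `2`-element commuting with an element of order three is trivial -/
theorem psl_eq_one {m : ℕ} (hF : Fintype.card F = 3 ^ (2 * m + 1)) (hZ : center (Matrix.ProjectiveSpecialLinearGroup (Fin 2) F) = ⊥)
    {t x : Matrix.ProjectiveSpecialLinearGroup (Fin 2) F} {k : ℕ} (ht : t ^ 2 ^ k = 1) (hx1 : x ≠ 1) (hx3 : x ^ 3 = 1)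
    (htx : t * x = x * t) : t = 1 := by
  have hc := Cfsg.Agent.LieRecognition.ReeAbs.charP_three hF
  have : Fact (Nat.Prime 3) := ⟨Nat.prime_three⟩
  have hodd : Odd (Nat.card (F ≃+* F)) := by
    rw [Cfsg.Agent.Lib.FieldAutCard.card_ringAut (by omega) hF]
    exact ⟨m, rfl⟩
  have h1 : (MulAut.conj t) = (1 : MulAut (Matrix.ProjectiveSpecialLinearGroup (Fin 2) F)) := by
    refine Cfsg.Agent.H18.Carter.PslTwo.eq_one_of_fix' hodd (k := k) ?_ hx1 hx3 ?_
    · rw [← map_pow, ht, map_one]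
    · rw [MulAut.conj_apply, htx, mul_inv_cancel_right]
  have h2 : t ∈ center (Matrix.ProjectiveSpecialLinearGroup (Fin 2) F) := by
    rw [mem_center_iff]
    intro g
    have h3 : MulAut.conj t g = g := by rw [h1]; rfl
    rw [MulAut.conj_apply, mul_inv_eq_iff_eq_mul] at h3
    exact h3.symm
  rwa [hZ, mem_bot] at h2

/-- the row `PSL₂(3^odd)` -/
theorem exc_psl {m : ℕ} (hm : 1 ≤ m) (hF : Fintype.card F = 3 ^ (2 * m + 1))
    (hZ : center (Matrix.ProjectiveSpecialLinearGroup (Fin 2) F) = ⊥) : Exc (Matrix.ProjectiveSpecialLinearGroup (Fin 2) F) := by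
  have hc := Cfsg.Agent.LieRecognition.ReeAbs.charP_three hF
  have : Fact (Nat.Prime 3) := ⟨Nat.prime_three⟩
  have : Fact (Nat.Prime 2) := ⟨Nat.prime_two⟩
  obtain ⟨h8, h5⟩ := three_mod m
  rw [← hF] at h8 h5
  have hqo : Odd (Fintype.card F) := Nat.odd_iff.2 (by omega)
  have hcard := Cfsg.Agent.ClassicalGeometry.PSL2Basic.card_PSL2_odd F hqo
  set T := Matrix.ProjectiveSpecialLinearGroup (Fin 2) F with hT
  obtain ⟨k, hk⟩ : ∃ k, Fintype.card F = 8 * k + 3 := ⟨Fintype.card F / 8, by omega⟩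
  have hq2 : Fintype.card F ^ 2 - 1 = 8 * (8 * k ^ 2 + 6 * k + 1) := by
    rw [hk]
    have : (8 * k + 3) ^ 2 = 8 * (8 * k ^ 2 + 6 * k + 1) + 1 := by ring
    omega
  have hT4 : Nat.card T = 4 * ((8 * k + 3) * (8 * k ^ 2 + 6 * k + 1)) := by
    have h1 : Nat.card T * 2 = (8 * k + 3) * (8 * (8 * k ^ 2 + 6 * k + 1)) := by rw [hcard, hq2, hk]
    nlinarith
  have hodd1 : ¬ 2 ∣ (8 * k + 3) * (8 * k ^ 2 + 6 * k + 1) := by
    rw [Nat.prime_two.dvd_mul]
    rintro (h | h)
    · omega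
    · have : 8 * k ^ 2 + 6 * k + 1 = 2 * (4 * k ^ 2 + 3 * k) + 1 := by ring
      omega
  have hP4 : ∀ P : Sylow 2 T, Nat.card P = 4 := by
    intro P
    obtain ⟨j, hj⟩ := IsPGroup.iff_card.1 P.2
    have h1 := (P : Subgroup T).card_mul_index
    have h2 : ¬ 2 ∣ (P : Subgroup T).index := P.not_dvd_index
    rw [hj, hT4] at h1
    have hj2 : j = 2 := by
      rcases Nat.lt_trichotomy j 2 with h3 | h3 | h3
      · exfalso
        apply h2
        have h4 : 2 ^ 2 ∣ 2 ^ j * (P : Subgroup T).index := by rw [h1]; exact Dvd.intro _ rfl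
        obtain ⟨i, hi⟩ : ∃ i, 2 = j + 1 + i := ⟨1 - j, by omega⟩
        rw [show (2 : ℕ) ^ 2 = 2 ^ (j + 1 + i) by rw [← hi], pow_add, pow_add, mul_assoc] at h4
        have h5 := Nat.dvd_of_mul_dvd_mul_left (pow_pos (by norm_num) j) h4
        rw [pow_one] at h5
        exact (Dvd.intro _ rfl).trans h5
      · exact h3
      · exfalso
        apply hodd1
        have h4 : 2 ^ 3 ∣ 4 * ((8 * k + 3) * (8 * k ^ 2 + 6 * k + 1)) := by
          rw [← h1]; exact (pow_dvd_pow 2 h3).mul_right _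
        rw [show (2 : ℕ) ^ 3 = 4 * 2 by norm_num] at h4
        exact Nat.dvd_of_mul_dvd_mul_left (by norm_num) h4
    show Nat.card (P : Subgroup T) = 4
    rw [hj, hj2]; norm_num
  refine ⟨?_, ?_, ?_, ?_, ?_⟩
  · intro P x hx y hy
    have := comm_of_card_dvd_four (P := ↥(P : Subgroup T)) (by rw [hP4 P]) ⟨x, hx⟩ ⟨y, hy⟩
    exact congrArg Subtype.val this
  · intro P Q hQ hc hd
    rw [hP4] at hc
    have hQ2 : Nat.card Q = 2 := by omega
    have hne : Q ≠ ⊥ := by
      rintro rfl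
      rw [Subgroup.card_bot] at hQ2
      omega
    obtain ⟨t, ht, ht1⟩ : ∃ t ∈ Q, t ≠ 1 := by
      by_contra hcon
      push Not at hcon
      exact hne ((Subgroup.eq_bot_iff_forall Q).2 hcon)
    obtain ⟨x, hx⟩ := exists_prime_orderOf_dvd_card' (G := ↥(centralizer (Q : Set T))) 3 hd
    apply ht1
    have hx' : orderOf (x : T) = 3 := by rw [orderOf_coe, hx]
    refine psl_eq_one hF hZ (k := 1) (t := (t : T)) (x := (x : T)) ?_ ?_ ?_ ?_
    · have h1 := orderOf_dvd_natCard (⟨t, ht⟩ : Q)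
      rw [hQ2] at h1
      have h2 : (⟨t, ht⟩ : Q) ^ 2 = 1 := orderOf_dvd_iff_pow_eq_one.1 h1
      rw [pow_one]
      exact congrArg Subtype.val h2
    · intro h1
      rw [h1, orderOf_one] at hx'
      omega
    · rw [← hx', pow_orderOf_eq_one]
    · exact (mem_centralizer_iff.1 x.2 t ht)
  · intro h
    have h1 : 5 ∣ Nat.card T * 2 := h.mul_right _
    rw [hcard] at h1
    have h2 : Fintype.card F ^ 2 - 1 = (Fintype.card F + 1) * (Fintype.card F - 1) := by
      simpa using Nat.sq_sub_sq (Fintype.card F) 1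
    rw [h2] at h1
    rcases (Nat.Prime.dvd_mul (by norm_num)).1 h1 with h3 | h3
    · omega
    · rcases (Nat.Prime.dvd_mul (by norm_num)).1 h3 with h4 | h4 <;> omega
  · refine aut_of (n := Fintype.card F * (Fintype.card F ^ 2 - 1) * (2 * m + 1)) ?_ ?_
    · rw [Cfsg.Agent.ClassicalGeometry.AutPSL.Main.card_two 3, Cfsg.Agent.ClassicalGeometry.PSL2Basic.card_PGL2,
        Cfsg.Agent.Lib.FieldAutCard.card_ringAut (by omega) hF]
    · rw [hq2, hk]
      intro h
      have h1 : 8 * 2 ∣ 8 * (((8 * k + 3) * (8 * k ^ 2 + 6 * k + 1)) * (2 * m + 1)) := by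
        refine h.trans (dvd_of_eq ?_)
        ring
      have h2 := Nat.dvd_of_mul_dvd_mul_left (by norm_num) h1
      rcases Nat.prime_two.dvd_mul.1 h2 with h3 | h3
      · exact hodd1 h3
      · omega
  · intro h
    rcases Nat.lt_or_ge m 2 with h1 | h1
    · have hm1 : m = 1 := by omega
      subst hm1
      norm_num at hF
      have h2 : k = 3 := by omega
      subst h2
      rw [hT4] at h
      norm_num [Nat.factorial] at h
    · have h2 : 3 ^ 5 ∣ Nat.card T * 2 := by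
        rw [hcard]
        refine Dvd.dvd.mul_right ?_ _
        rw [hF]
        exact pow_dvd_pow 3 (by omega)
      have h3 : 3 ^ 5 ∣ Nat.card T := Nat.Coprime.dvd_of_dvd_mul_right (by norm_num) h2
      have h4 := h3.trans h
      norm_num [Nat.factorial] at h4

end Psl

section Ree

open Cfsg.Agent.LieRecognition

variable {K : Type*} [Field K] [Fintype K] {m : ℕ}

/-- `3` does not divide the order of the centraliser of two commuting involutions -/
theorem ree_cent (hm : 1 ≤ m) (hK : Fintype.card K = 3 ^ (2 * m + 1))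
    (hZ : center (Matrix.ProjectiveSpecialLinearGroup (Fin 2) K) = ⊥) {t s x : ↥(twistedG2 K (3 ^ m))} (ht : t * t = 1)
    (ht1 : t ≠ 1) (hs : s * s = 1) (hs1 : s ≠ 1) (hst : s ≠ t) (hc : s * t = t * s) (hx1 : x ≠ 1) (hx3 : x ^ 3 = 1)
    (hxt : x * t = t * x) (hxs : x * s = s * x) : False := by
  have hcharK := ReeAbs.charP_three hK
  obtain ⟨a, haH, ha1, ha2⟩ := Cfsg.Agent.S1157.exists_involution hK
  obtain ⟨⟨ε⟩, hS⟩ := Cfsg.Agent.S1152.result hK a haH ha1 ha2
  have hcd := ReeCent.centData ha1 ha2 ε ReePSL.klein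
  obtain ⟨g, hg⟩ := ReeInv.isConj_involution hcd ReePSL.klein (Cfsg.Agent.S1116.result hK hm) hS ht1 ht
  -- move `t` to `a`
  set c : ↥(twistedG2 K (3 ^ m)) ≃* ↥(twistedG2 K (3 ^ m)) := MulAut.conj g⁻¹ with hcdef
  have hct : c t = a := by
    rw [hcdef, MulAut.conj_apply, ← hg]; group
  have hsC : c s ∈ centralizer ({a} : Set ↥(twistedG2 K (3 ^ m))) := by
    rw [mem_centralizer_singleton_iff, ← hct, ← map_mul, ← map_mul, hc]
  have hxC : c x ∈ centralizer ({a} : Set ↥(twistedG2 K (3 ^ m))) := by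
    rw [mem_centralizer_singleton_iff, ← hct, ← map_mul, ← map_mul, hxt]
  have haC : a ∈ centralizer ({a} : Set ↥(twistedG2 K (3 ^ m))) := mem_centralizer_singleton_iff.2 rfl
  set A : ↥(centralizer ({a} : Set ↥(twistedG2 K (3 ^ m)))) := ⟨a, haC⟩ with hA
  set Sg : ↥(centralizer ({a} : Set ↥(twistedG2 K (3 ^ m)))) := ⟨c s, hsC⟩ with hSg
  set X : ↥(centralizer ({a} : Set ↥(twistedG2 K (3 ^ m)))) := ⟨c x, hxC⟩ with hX
  have hA1 : A ≠ 1 := fun h => ha1 (congrArg Subtype.val h)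
  have hSg1 : Sg ≠ 1 := fun h => hs1 ((EmbeddingLike.map_eq_one_iff (f := c)).1 (congrArg Subtype.val h))
  have hSgA : Sg ≠ A := fun h => hst (c.injective (by rw [hct]; exact congrArg Subtype.val h))
  have hX1 : X ≠ 1 := fun h => hx1 ((EmbeddingLike.map_eq_one_iff (f := c)).1 (congrArg Subtype.val h))
  have hX3 : X ^ 3 = 1 := Subtype.ext (by show (c x) ^ 3 = 1; rw [← map_pow, hx3, map_one])
  have hSg2 : Sg * Sg = 1 := Subtype.ext (by show c s * c s = 1; rw [← map_mul, hs, map_one])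
  have hXS : X * Sg = Sg * X := Subtype.ext (by show c x * c s = c s * c x; rw [← map_mul, ← map_mul, hxs])
  have hAc : ∀ y : ↥(centralizer ({a} : Set ↥(twistedG2 K (3 ^ m)))), y * A = A * y := fun y =>
    Subtype.ext (mem_centralizer_singleton_iff.1 y.2)
  have hAε : (ε A).2 = 1 := by
    have h1 : (ε A).2 ∈ center (Matrix.ProjectiveSpecialLinearGroup (Fin 2) K) := by
      rw [mem_center_iff]
      intro y
      have h2 := congrArg ε (hAc (ε.symm (1, y)))
      rw [map_mul, map_mul, MulEquiv.apply_symm_apply] at h2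
      exact congrArg Prod.snd h2
    rwa [hZ, mem_bot] at h1
  have hz2 : ∀ z w : Multiplicative (ZMod 2), z ≠ 1 → w ≠ 1 → z = w := by decide
  have hSε : (ε Sg).2 ≠ 1 := by
    intro h
    by_cases h1 : (ε Sg).1 = 1
    · exact hSg1 ((EmbeddingLike.map_eq_one_iff (f := ε)).1 (Prod.ext h1 h))
    · have h2 : (ε A).1 ≠ 1 := fun h3 => hA1 ((EmbeddingLike.map_eq_one_iff (f := ε)).1 (Prod.ext h3 hAε))
      exact hSgA (ε.injective (Prod.ext (hz2 _ _ h1 h2) (h.trans hAε.symm)))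
  apply hSε
  have hX3' : (ε X) ^ 3 = 1 := by rw [← map_pow, hX3, map_one]
  refine psl_eq_one hK hZ (k := 1) (t := (ε Sg).2) (x := (ε X).2) ?_ ?_ ?_ ?_
  · have h1 : ε Sg * ε Sg = 1 := by rw [← map_mul, hSg2, map_one]
    rw [pow_one, sq]
    exact congrArg Prod.snd h1
  · intro h
    have h3 : ∀ z : Multiplicative (ZMod 2), z ^ 3 = 1 → z = 1 := by decide
    have h4 : (ε X).1 = 1 := h3 _ (congrArg Prod.fst hX3')
    exact hX1 ((EmbeddingLike.map_eq_one_iff (f := ε)).1 (Prod.ext h4 h))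
  · exact congrArg Prod.snd hX3'
  · have h1 : ε X * ε Sg = ε Sg * ε X := by rw [← map_mul, ← map_mul, hXS]
    exact (congrArg Prod.snd h1).symm

/-- the row `²G₂(3^odd)` -/
theorem exc_ree (hm : 1 ≤ m) (hK : Fintype.card K = 3 ^ (2 * m + 1))
    (hZ : center (Matrix.ProjectiveSpecialLinearGroup (Fin 2) K) = ⊥) : Exc ↥(twistedG2 K (3 ^ m)) := by
  have : Fact (Nat.Prime 3) := ⟨Nat.prime_three⟩
  have : Fact (Nat.Prime 2) := ⟨Nat.prime_two⟩
  obtain ⟨U, h, n, D⟩ := Cfsg.Agent.ChevalleyStructure.Ree.Data.exists_data hK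
  have hfin : Finite ↥(twistedG2 K (3 ^ m)) := ReeSylowThree.finite D
  obtain ⟨a, haH, ha1, ha2⟩ := Cfsg.Agent.S1157.exists_involution hK
  have hS := (Cfsg.Agent.S1152.result hK a haH ha1 ha2).2
  have hcard := ReeSylowThree.card_eq D
  obtain ⟨h8, h5⟩ := three_mod m
  rw [← hK] at h8 h5
  obtain ⟨k, hk⟩ : ∃ k, Fintype.card K = 8 * k + 3 := ⟨Fintype.card K / 8, by omega⟩
  set T := ↥(twistedG2 K (3 ^ m)) with hT
  have hT8 : Nat.card T = 8 * ((8 * k + 3) ^ 3 * (4 * k + 1) * ((2 * k + 1) * (64 * k ^ 2 + 40 * k + 7))) := by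
    rw [hcard, hk]
    have h1 : (8 * k + 3) ^ 3 + 1 = 4 * ((2 * k + 1) * (64 * k ^ 2 + 40 * k + 7)) := by ring
    have h2 : 8 * k + 3 - 1 = 2 * (4 * k + 1) := by omega
    rw [h1, h2]
    ring
  have hodd1 : ¬ 2 ∣ (8 * k + 3) ^ 3 * (4 * k + 1) * ((2 * k + 1) * (64 * k ^ 2 + 40 * k + 7)) := by
    intro h
    rcases Nat.prime_two.dvd_mul.1 h with h1 | h1
    · rcases Nat.prime_two.dvd_mul.1 h1 with h2 | h2
      · have := Nat.prime_two.dvd_of_dvd_pow h2
        omega
      · omega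
    · rcases Nat.prime_two.dvd_mul.1 h1 with h2 | h2
      · omega
      · have : 64 * k ^ 2 + 40 * k + 7 = 2 * (32 * k ^ 2 + 20 * k + 3) + 1 := by ring
        omega
  refine ⟨?_, ?_, ?_, ?_, ?_⟩
  · intro P x hx y hy
    exact comm_of_sq ((hS P).2 x hx) ((hS P).2 y hy) ((hS P).2 _ (mul_mem hx hy))
  · intro P Q hQ hc hd
    have hP8 : Nat.card P = 8 := (hS P).1
    rw [hP8] at hc
    have hQ4 : Nat.card Q = 4 := by omega
    have hQs : ∀ y ∈ Q, y * y = 1 := fun y hy => (hS P).2 y (hQ hy)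
    obtain ⟨t, ht, ht1⟩ : ∃ t ∈ Q, t ≠ 1 := by
      by_contra hcon
      push Not at hcon
      rw [(Subgroup.eq_bot_iff_forall Q).2 hcon, Subgroup.card_bot] at hQ4
      omega
    obtain ⟨s, hs, hst⟩ : ∃ s ∈ Q, s ∉ zpowers t := by
      by_contra hcon
      push Not at hcon
      have h1 : Nat.card Q ∣ Nat.card (zpowers t) := Subgroup.card_dvd_of_le hcon
      rw [hQ4, Nat.card_zpowers] at h1
      have h2 : orderOf t ∣ 2 := orderOf_dvd_of_pow_eq_one (by rw [sq]; exact hQs t ht)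
      have h3 := h1.trans h2
      norm_num at h3
    obtain ⟨x, hx⟩ := exists_prime_orderOf_dvd_card' (G := ↥(centralizer (Q : Set T))) 3 hd
    have hx' : orderOf (x : T) = 3 := by rw [orderOf_coe, hx]
    refine ree_cent hm hK hZ (t := t) (s := s) (x := (x : T)) (hQs t ht) ht1 (hQs s hs) ?_ ?_ ?_ ?_ ?_ ?_ ?_
    · rintro rfl
      exact hst (one_mem _)
    · rintro rfl
      exact hst (mem_zpowers _)
    · exact comm_of_sq (hQs s hs) (hQs t ht) (hQs _ (mul_mem hs ht))
    · intro h1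
      rw [h1, orderOf_one] at hx'
      omega
    · exact orderOf_dvd_iff_pow_eq_one.1 (dvd_of_eq hx')
    · exact (mem_centralizer_iff.1 x.2 t ht).symm
    · exact (mem_centralizer_iff.1 x.2 s hs).symm
  · intro h
    rw [hcard] at h
    have hpos := Fintype.card_pos (α := K)
    obtain ⟨j, hj⟩ : ∃ j, Fintype.card K = 5 * j + 3 ∨ Fintype.card K = 5 * j + 2 := by
      rcases h5 with h5 | h5
      · exact ⟨Fintype.card K / 5, Or.inl (by omega)⟩
      · exact ⟨Fintype.card K / 5, Or.inr (by omega)⟩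
    have p5 : Nat.Prime 5 := by norm_num
    rcases p5.dvd_mul.1 h with h1 | h1
    · rcases p5.dvd_mul.1 h1 with h2 | h2
      · have := p5.dvd_of_dvd_pow h2
        omega
      · omega
    · rcases hj with hj | hj
      · rw [hj, show (5 * j + 3) ^ 3 + 1 = 5 * (25 * j ^ 3 + 45 * j ^ 2 + 27 * j + 5) + 3 by ring] at h1
        omega
      · rw [hj, show (5 * j + 2) ^ 3 + 1 = 5 * (25 * j ^ 3 + 30 * j ^ 2 + 12 * j + 1) + 4 by ring] at h1
        omega
  · have : Finite (MulAut T) := Finite.of_injective (fun e : MulAut T => (e : T → T)) DFunLike.coe_injective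
    refine aut_of (n := Nat.card T * (2 * m + 1)) ?_ ?_
    · have h1 : (MulAut.conj : T →* MulAut T).range.index = 2 * m + 1 := Cfsg.Agent.S2127.result hm hK
      rw [← (MulAut.conj : T →* MulAut T).range.card_mul_index, h1]
      exact Nat.mul_dvd_mul_right (Subgroup.card_range_dvd _) _
    · rw [hT8]
      intro h
      have h1 : 8 * 2 ∣ 8 * (((8 * k + 3) ^ 3 * (4 * k + 1) * ((2 * k + 1) * (64 * k ^ 2 + 40 * k + 7))) * (2 * m + 1)) := by
        refine h.trans (dvd_of_eq ?_)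
        ring
      have h2 := Nat.dvd_of_mul_dvd_mul_left (by norm_num) h1
      rcases Nat.prime_two.dvd_mul.1 h2 with h3 | h3
      · exact hodd1 h3
      · omega
  · intro h
    have h2 : 3 ^ 5 ∣ Nat.card T := by
      rw [hcard, mul_assoc]
      refine Dvd.dvd.mul_right ?_ _
      rw [hK, ← pow_mul]
      exact pow_dvd_pow 3 (by omega)
    have h4 := h2.trans h
    norm_num [Nat.factorial] at h4

end Ree

theorem center_of_simple {T : Type*} [Group T] [Finite T] (hs : IsSimpleGroup T) (h4 : 4 ∣ Nat.card T) : center T = ⊥ := by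
  rcases hs.eq_bot_or_eq_top_of_normal (center T) inferInstance with h | h
  · exact h
  · exfalso
    let _ : CommGroup T := { (inferInstance : Group T) with
      mul_comm := fun a b => (mem_center_iff.1 (by rw [h]; trivial : b ∈ center T) a) }
    have hp : (Nat.card T).Prime := IsSimpleGroup.prime_card
    have h1 := (Nat.prime_dvd_prime_iff_eq Nat.prime_two hp).1 ((show 2 ∣ 4 by norm_num).trans h4)
    rw [← h1] at h4
    norm_num at h4

theorem four_dvd {F : Type*} [Field F] [Fintype F] {m : ℕ} (hF : Fintype.card F = 3 ^ (2 * m + 1)) :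
    4 ∣ Nat.card (Matrix.ProjectiveSpecialLinearGroup (Fin 2) F) := by
  obtain ⟨h8, -⟩ := three_mod m
  rw [← hF] at h8
  have hqo : Odd (Fintype.card F) := Nat.odd_iff.2 (by omega)
  have hcard := Cfsg.Agent.ClassicalGeometry.PSL2Basic.card_PSL2_odd F hqo
  obtain ⟨k, hk⟩ : ∃ k, Fintype.card F = 8 * k + 3 := ⟨Fintype.card F / 8, by omega⟩
  have hq2 : Fintype.card F ^ 2 - 1 = 8 * (8 * k ^ 2 + 6 * k + 1) := by
    rw [hk]
    have : (8 * k + 3) ^ 2 = 8 * (8 * k ^ 2 + 6 * k + 1) + 1 := by ring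
    omega
  refine ⟨(8 * k + 3) * (8 * k ^ 2 + 6 * k + 1), ?_⟩
  have h1 : Nat.card (Matrix.ProjectiveSpecialLinearGroup (Fin 2) F) * 2 = (8 * k + 3) * (8 * (8 * k ^ 2 + 6 * k + 1)) := by
    rw [hcard, hq2, hk]
  nlinarith

theorem simple_psl {F : Type*} [Field F] [Fintype F] {m : ℕ} (hm : 1 ≤ m) (hF : Fintype.card F = 3 ^ (2 * m + 1)) :
    IsSimpleGroup (Matrix.ProjectiveSpecialLinearGroup (Fin 2) F) := by
  refine Matrix.ProjectiveSpecialLinearGroup.rank_two_simple ?_
  rw [Nat.card_eq_fintype_card, hF]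
  have : 3 ^ 3 ≤ 3 ^ (2 * m + 1) := Nat.pow_le_pow_right (by norm_num) (by omega)
  omega

end EO

open EO in
/-- **the exceptional socles have the properties `Exc`** -/
theorem excOk : ExcOk.{u} := by
  rintro T _ _ hs (⟨F, _, _, m, hF, ⟨e⟩⟩ | ⟨F, _, _, m, hm, hF, ⟨e⟩⟩)
  · have hs' : IsSimpleGroup (Matrix.ProjectiveSpecialLinearGroup (Fin 2) F) := e.symm.isSimpleGroup
    have hZ := center_of_simple hs' (four_dvd hF)
    rcases Nat.eq_zero_or_pos m with rfl | hm
    · exfalso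
      have h1 := Cfsg.Agent.ClassicalGeometry.PSL2Basic.card_PSL2_odd F (by rw [hF]; decide)
      rw [hF] at h1
      norm_num at h1
      have h2 : Nat.card (Matrix.ProjectiveSpecialLinearGroup (Fin 2) F) = 12 := by omega
      have h3 := BpAlt.solvable_of_lt 12 (Matrix.ProjectiveSpecialLinearGroup (Fin 2) F) h2 (by norm_num)
      have h4 : ∀ a b : Matrix.ProjectiveSpecialLinearGroup (Fin 2) F, a * b = b * a :=
        IsSimpleGroup.comm_iff_isSolvable.2 h3
      have h5 : center (Matrix.ProjectiveSpecialLinearGroup (Fin 2) F) = ⊤ := by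
        rw [eq_top_iff]
        intro x _
        exact mem_center_iff.2 fun g => h4 g x
      rw [hZ] at h5
      exact bot_ne_top h5
    · exact (exc_psl hm hF hZ).congr e.symm
  · obtain ⟨U, h, n, D⟩ := Cfsg.Agent.ChevalleyStructure.Ree.Data.exists_data hF
    have hfin : Finite ↥(twistedG2 F (3 ^ m)) := Cfsg.Agent.LieRecognition.ReeSylowThree.finite D
    exact (exc_ree hm hF (center_of_simple (simple_psl hm hF) (four_dvd hF))).congr e.symm

end Cfsg.Agent.H460.Car
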